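import Groth.Agent.BorelStableLib.Basic

/-! The subalgebra spanned by a conic and a line of the adjoint variety. -/

set_option autoImplicit false

open LieModule LieAlgebra LieAlgebra.IsKilling Set

namespace Groth.Agent.LieConicLib

open BorelStableLib

universe u v w

variable {ι : Type u} {K : Type v} {L : Type w} [Fintype ι] [Field K] [CharZero K]
  [IsAlgClosed K] [LieRing L] [LieAlgebra K L] [FiniteDimensional K L] [LieAlgebra.IsSimple K L]
  {H : LieSubalgebra K L} [H.IsCartanSubalgebra] (b : LieAlgebra.Basis ι H)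

omit [Fintype ι] in
theorem lie_mem_add {μ ν : Module.Dual K H} {x y : L} (hx : x ∈ RS μ) (hy : y ∈ RS ν) :
    ⁅x, y⁆ ∈ RS (μ + ν) := by
  refine mem_of_lie fun h => ?_
  rw [leibniz_lie, lie_of_mem hx h, lie_of_mem hy h, smul_lie, lie_smul, LinearMap.add_apply, add_smul]

omit [Fintype ι] in
theorem eq_span {μ : Module.Dual K H} (hμ : μ ≠ 0) {x : L} (hx : x ∈ RS μ) (hx0 : x ≠ 0) :
    RS μ = Submodule.span K {x} := by
  let α : Weight K H L := ⟨μ, fun h => hx0 ((LieSubmodule.eq_bot_iff _).1 h x hx)⟩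
  have hα : α.IsNonZero := fun h => hμ (DFunLike.coe_injective (h : (μ : H → K) = 0))
  have h1 : Module.finrank K ↥(RS μ) = 1 := finrank_rootSpace_eq_one α hα
  refine (Submodule.eq_of_le_of_finrank_eq ((Submodule.span_singleton_le_iff_mem _ _).2 hx) ?_).symm
  rw [finrank_span_singleton hx0, h1]

omit [Fintype ι] in
theorem eq_zero_of_neg {μ : Module.Dual K H} (h : rootSpace H μ = ⊥) {x : L} (hx : x ∈ RS (-μ)) : x = 0 := by
  by_contra hx0
  let α : Weight K H L := ⟨(-μ : Module.Dual K H), fun h' => hx0 ((LieSubmodule.eq_bot_iff _).1 h' x hx)⟩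
  refine (-α).genWeightSpace_ne_bot L ?_
  rw [Weight.coe_neg]
  show rootSpace H (-((-μ : Module.Dual K H) : H → K)) = ⊥
  rw [← h]
  congr 1
  funext z
  simp

/-- The five vectors spanning the subalgebra. -/
structure Five (ρ : Module.Dual K H) (j : ι) where
  v : L
  v' : L
  h : L
  m : K
  m_ne : m ≠ 0
  v_ne : v ≠ 0
  v'_ne : v' ≠ 0
  h_ne : h ≠ 0
  h_mem : h ∈ RS (0 : Module.Dual K H)
  v_mem : v ∈ RS ρ
  v'_mem : v' ∈ RS (-ρ)
  v_eq : RS ρ = Submodule.span K {v}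
  v'_eq : RS (-ρ) = Submodule.span K {v'}
  w_eq : RS (ρ - b.baseSupp j) = Submodule.span K {⁅b.f j, v⁆}
  g_eq : RS (-b.baseSupp j) = Submodule.span K {b.f j}
  w_ne : ⁅b.f j, v⁆ ≠ 0
  vv' : ⁅v, v'⁆ = h
  hv : ⁅h, v⁆ = (2 : K) • v
  hv' : ⁅h, v'⁆ = -((2 : K) • v')
  hg : ⁅h, b.f j⁆ = -(m • b.f j)
  hw : ⁅h, ⁅b.f j, v⁆⁆ = (2 - m) • ⁅b.f j, v⁆
  v'g : ⁅v', b.f j⁆ = 0
  v'w : ⁅v', ⁅b.f j, v⁆⁆ = -(m • b.f j)
  vw : ⁅v, ⁅b.f j, v⁆⁆ = 0
  gw : ⁅b.f j, ⁅b.f j, v⁆⁆ = 0
  weights : Function.Injective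
    ![ρ, -ρ, 0, ρ - b.baseSupp j, -b.baseSupp j]

set_option maxHeartbeats 400000 in
theorem exists_five (ρ : Module.Dual K H) (hρ : rootSpace H ρ ≠ ⊥) (htop : ∀ i, rootSpace H (ρ + b.baseSupp i) = ⊥)
    (j : ι) (hj : ρ (b.h' j) = 1) : Nonempty (Five b ρ j) := by
  haveI : IsAddTorsionFree L := .of_isTorsionFree K L
  have hρ0 : ρ ≠ 0 := fun h => by rw [h, LinearMap.zero_apply] at hj; exact one_ne_zero hj.symm
  let α : Weight K H L := ⟨ρ, hρ⟩
  have hα : α.IsNonZero := fun h => hρ0 (DFunLike.coe_injective (h : (ρ : H → K) = 0))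
  obtain ⟨t0, v, v', hsl, hv, hv'⟩ := exists_isSl2Triple_of_weight_isNonZero hα
  have hv : v ∈ RS ρ := hv
  have hv' : v' ∈ RS (-ρ) := hv'
  have hh : t0 = (coroot α : L) := hsl.h_eq_coroot hα hv hv'
  let c : H := coroot α
  have hc : ρ c = 2 := root_apply_coroot hα
  have htH : t0 ∈ RS (0 : Module.Dual K H) := by
    have := lie_mem_add hv hv'
    rwa [hsl.lie_e_f, add_neg_cancel] at this
  have hev : ∀ i, ⁅b.e i, v⁆ = 0 := fun i => (LieSubmodule.eq_bot_iff _).1 (htop i) _ (lie_e b i hv)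
  have hv0 := hsl.e_ne_zero
  let w := ⁅b.f j, v⁆
  have hejw : ⁅b.e j, w⁆ = v := by
    show ⁅b.e j, ⁅b.f j, v⁆⁆ = v
    rw [leibniz_lie, (b.sl2 j).lie_e_f, lie_h b j hv, hj, one_smul, hev, lie_zero, add_zero]
  have hw0 : w ≠ 0 := fun h => hv0 (by rw [← hejw, h, lie_zero])
  have hwmem : w ∈ RS (ρ - b.baseSupp j) := lie_f b j hv
  have hff : ⁅b.f j, w⁆ = 0 := by
    have P : IsSl2Triple.HasPrimitiveVectorWith (b.sl2 j) v (((1 : ℕ) : K)) := ⟨hv0, by
      rw [lie_h b j hv, hj, one_smul, Nat.cast_one, one_smul], hev j⟩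
    have := P.pow_toEnd_f_eq_zero_of_eq_nat rfl
    simpa [pow_succ] using this
  have hA : b.baseSupp j (b.h' j) = 2 := by rw [b.baseSupp_apply_h', b.A_diag_eq_two]; norm_num
  have hroot : ∀ {μ : Module.Dual K H} {x : L}, x ∈ RS μ → x ≠ 0 → ∃ l : List ι, ρ - (l.map b.baseSupp).sum = μ := by
    intro μ x hx hx0
    by_contra hne
    push Not at hne
    have := mem_span_mon b hv0 hv hev hx
    have hs : {l : List ι | ρ - (l.map b.baseSupp).sum = μ} = (∅ : Set (List ι)) :=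
      Set.eq_empty_iff_forall_notMem.2 hne
    erw [hs, Set.image_empty, Submodule.span_empty] at this
    exact hx0 ((Submodule.mem_bot K).1 this)
  obtain ⟨l', hl'⟩ := hroot (e_mem b j) (b.sl2 j).e_ne_zero
  have hneρ : ρ ≠ b.baseSupp j := fun h => by
    rw [h, hA] at hj; norm_num at hj
  have hvw : ⁅v, w⁆ = 0 := by
    by_contra h0
    obtain ⟨l, hl⟩ := hroot (lie_mem_add hv hwmem) h0
    have h1 : ((l ++ l').map b.baseSupp).sum = (([] : List ι).map b.baseSupp).sum := by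
      rw [List.map_append, List.sum_append, List.map_nil, List.sum_nil]
      linear_combination (norm := module) -hl - hl'
    have h2 := (perm_of_sum_eq b h1).eq_nil
    rw [List.append_eq_nil_iff] at h2
    rw [h2.2] at hl'
    exact hneρ (by simpa using hl')
  have hv'g : ⁅v', b.f j⁆ = 0 := by
    have hb : rootSpace H ((ρ + b.baseSupp j : Module.Dual K H) : H → K) = ⊥ := by
      exact htop j
    refine eq_zero_of_neg (μ := ρ + b.baseSupp j) hb ?_
    rw [neg_add]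
    exact lie_mem_add hv' (f_mem b j)
  have hlie : ∀ {μ : Module.Dual K H} {x : L}, x ∈ RS μ → ⁅t0, x⁆ = μ c • x := fun hx => by
    rw [hh]; exact lie_of_mem hx c
  have htg : ⁅t0, b.f j⁆ = -(b.baseSupp j c • b.f j) := by
    rw [hlie (f_mem b j), LinearMap.neg_apply, neg_smul]
  have hm : b.baseSupp j c ≠ 0 := by
    intro hm
    have P : IsSl2Triple.HasPrimitiveVectorWith hsl.symm (b.f j) (((0 : ℕ) : K)) := ⟨(b.sl2 j).f_ne_zero, by
      rw [neg_lie, htg, hm, zero_smul, neg_zero, neg_zero, Nat.cast_zero, zero_smul], hv'g⟩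
    have := P.pow_toEnd_f_eq_zero_of_eq_nat rfl
    have : ⁅v, b.f j⁆ = 0 := by simpa using this
    exact hw0 (by show ⁅b.f j, v⁆ = 0; rw [← lie_skew, this, neg_zero])
  refine ⟨⟨v, v', t0, b.baseSupp j c, hm, hv0, hsl.f_ne_zero, hsl.h_ne_zero, htH, hv, hv', eq_span hρ0 hv hv0,
    eq_span (neg_ne_zero.2 hρ0) hv' hsl.f_ne_zero, eq_span (sub_ne_zero.2 hneρ) hwmem hw0,
    eq_span (neg_ne_zero.2 fun h => by rw [h] at hA; simp at hA) (f_mem b j) (b.sl2 j).f_ne_zero, hw0,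
    hsl.lie_e_f, ?_, ?_, htg, ?_, hv'g, ?_, hvw, hff, ?_⟩⟩
  · rw [hlie hv, hc]
  · rw [hlie hv', LinearMap.neg_apply, hc, neg_smul]
  · rw [hlie hwmem, LinearMap.sub_apply, hc]
  · show ⁅v', ⁅b.f j, v⁆⁆ = _
    rw [leibniz_lie, hv'g, zero_lie, zero_add, ← lie_skew v' v, hsl.lie_e_f, lie_neg, ← lie_skew (b.f j) t0, neg_neg,
      htg]
  · have e : ∀ {x y : Module.Dual K H}, x = y → x (b.h' j) = y (b.h' j) := fun h => by rw [h]
    have hne2 : -ρ ≠ ρ - b.baseSupp j := by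
      intro h
      have h1 : ((l' ++ l' ++ [j]).map b.baseSupp).sum = (([] : List ι).map b.baseSupp).sum := by
        rw [List.map_append, List.map_append, List.sum_append, List.sum_append, List.map_nil, List.sum_nil,
          List.map_cons, List.map_nil, List.sum_cons, List.sum_nil, add_zero]
        linear_combination (norm := module) (-2 : K) • hl' - h
      have := (perm_of_sum_eq b h1).eq_nil
      simp at this
    intro x y h
    have h' := e h
    fin_cases x <;> fin_cases y <;>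
      first
        | rfl
        | exact absurd h hne2
        | exact absurd h.symm hne2
        | (exfalso; simp [hj, hA] at h' <;> norm_num at h')

end Groth.Agent.LieConicLib
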