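import Groth.Agent.LieConicLib.Basic

/-! The dimension and radical of the subalgebra spanned by a conic and a line. -/

set_option autoImplicit false

open LieModule LieAlgebra LieAlgebra.IsKilling Set

namespace Groth.Agent.LieConicLib

open BorelStableLib

universe u v w

variable {ι : Type u} {K : Type v} {L : Type w} [Fintype ι] [Field K] [CharZero K]
  [IsAlgClosed K] [LieRing L] [LieAlgebra K L] [FiniteDimensional K L] [LieAlgebra.IsSimple K L]
  {H : LieSubalgebra K L} [H.IsCartanSubalgebra] {b : LieAlgebra.Basis ι H}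
  {ρ : Module.Dual K H} {j : ι} (T : Five b ρ j)

/-- The five vectors. -/
def vec : Fin 5 → L := ![T.v, T.v', T.h, ⁅b.f j, T.v⁆, b.f j]

theorem linearIndependent_vec : LinearIndependent K (vec T) := by
  have hd := LieSubmodule.iSupIndep_toSubmodule.2 (iSupIndep_genWeightSpace K H L)
  refine (hd.comp (f := fun i => ((![ρ, -ρ, 0, ρ - b.baseSupp j, -b.baseSupp j] i : Module.Dual K H) : H → K))
    (DFunLike.coe_injective.comp T.weights)).linearIndependent _ (fun i => ?_) (fun i => ?_)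
  · fin_cases i
    · exact T.v_mem
    · exact T.v'_mem
    · exact T.h_mem
    · exact lie_f b j T.v_mem
    · exact f_mem b j
  · fin_cases i
    · exact T.v_ne
    · exact T.v'_ne
    · exact T.h_ne
    · exact T.w_ne
    · exact (b.sl2 j).f_ne_zero

/-- The span of the five vectors. -/
def spn : Submodule K L := Submodule.span K (range (vec T))

theorem lie_vec_mem (i k : Fin 5) : ⁅vec T i, vec T k⁆ ∈ spn T := by
  have m : ∀ i, vec T i ∈ spn T := fun i => Submodule.subset_span ⟨i, rfl⟩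
  have z : (0 : L) ∈ spn T := Submodule.zero_mem _
  have n : ∀ {x y : L}, ⁅x, y⁆ ∈ spn T → ⁅y, x⁆ ∈ spn T := fun {x y} h => by
    rw [← lie_skew]; exact Submodule.neg_mem _ h
  have h1 : ⁅T.v, T.v'⁆ ∈ spn T := T.vv' ▸ m 2
  have h2 : ⁅T.h, T.v⁆ ∈ spn T := T.hv ▸ Submodule.smul_mem _ _ (m 0)
  have h3 : ⁅T.h, T.v'⁆ ∈ spn T := T.hv' ▸ Submodule.neg_mem _ (Submodule.smul_mem _ _ (m 1))
  have h4 : ⁅T.h, b.f j⁆ ∈ spn T := T.hg ▸ Submodule.neg_mem _ (Submodule.smul_mem _ _ (m 4))
  have h5 : ⁅T.h, ⁅b.f j, T.v⁆⁆ ∈ spn T := T.hw ▸ Submodule.smul_mem _ _ (m 3)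
  have h6 : ⁅T.v', b.f j⁆ ∈ spn T := T.v'g ▸ z
  have h7 : ⁅T.v', ⁅b.f j, T.v⁆⁆ ∈ spn T := T.v'w ▸ Submodule.neg_mem _ (Submodule.smul_mem _ _ (m 4))
  have h8 : ⁅T.v, ⁅b.f j, T.v⁆⁆ ∈ spn T := T.vw ▸ z
  have h9 : ⁅b.f j, ⁅b.f j, T.v⁆⁆ ∈ spn T := T.gw ▸ z
  have h10 : ⁅b.f j, T.v⁆ ∈ spn T := m 3
  fin_cases i <;> fin_cases k <;> simp only [vec] <;>
    first
      | (simp only [lie_self]; exact z)
      | exact h1 | exact h2 | exact h3 | exact h4 | exact h5 | exact h6 | exact h7 | exact h8 | exact h9 | exact h10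
      | exact n h1 | exact n h2 | exact n h3 | exact n h4 | exact n h5 | exact n h6 | exact n h7 | exact n h8
      | exact n h9 | exact n h10

/-- The five dimensional subalgebra. -/
def alg : LieSubalgebra K L :=
  { spn T with
    lie_mem' := fun {x y} hx hy => by
      change x ∈ spn T at hx
      change y ∈ spn T at hy
      show ⁅x, y⁆ ∈ spn T
      induction hx using Submodule.span_induction with
      | mem x hx =>
        obtain ⟨i, rfl⟩ := hx
        induction hy using Submodule.span_induction with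
        | mem y hy => obtain ⟨k, rfl⟩ := hy; exact lie_vec_mem T i k
        | zero => rw [lie_zero]; exact Submodule.zero_mem _
        | add a c _ _ ha hc => rw [lie_add]; exact Submodule.add_mem _ ha hc
        | smul t a _ ha => rw [lie_smul]; exact Submodule.smul_mem _ t ha
      | zero => rw [zero_lie]; exact Submodule.zero_mem _
      | add a c _ _ ha hc => rw [add_lie]; exact Submodule.add_mem _ ha hc
      | smul t a _ ha => rw [smul_lie]; exact Submodule.smul_mem _ t ha }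

theorem alg_eq : LieSubalgebra.lieSpan K L
      ((RS ρ : Set L) ∪ (RS (-ρ) : Set L) ∪ (RS (ρ - b.baseSupp j) : Set L)) = alg T := by
  have m : ∀ i, vec T i ∈ spn T := fun i => Submodule.subset_span ⟨i, rfl⟩
  refine le_antisymm (LieSubalgebra.lieSpan_le.2 ?_) ?_
  · rintro x ((hx | hx) | hx)
    · rw [SetLike.mem_coe, T.v_eq, Submodule.mem_span_singleton] at hx
      obtain ⟨c, rfl⟩ := hx; exact Submodule.smul_mem _ c (m 0)
    · rw [SetLike.mem_coe, T.v'_eq, Submodule.mem_span_singleton] at hx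
      obtain ⟨c, rfl⟩ := hx; exact Submodule.smul_mem _ c (m 1)
    · rw [SetLike.mem_coe, T.w_eq, Submodule.mem_span_singleton] at hx
      obtain ⟨c, rfl⟩ := hx; exact Submodule.smul_mem _ c (m 3)
  · intro x hx
    set S := LieSubalgebra.lieSpan K L
      ((RS ρ : Set L) ∪ (RS (-ρ) : Set L) ∪ (RS (ρ - b.baseSupp j) : Set L))
    change x ∈ spn T at hx
    refine Submodule.span_le (p := S.toSubmodule) |>.2 ?_ hx
    have h0 : T.v ∈ S := LieSubalgebra.subset_lieSpan (Or.inl (Or.inl T.v_mem))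
    have h1 : T.v' ∈ S := LieSubalgebra.subset_lieSpan (Or.inl (Or.inr T.v'_mem))
    have h3 : ⁅b.f j, T.v⁆ ∈ S := LieSubalgebra.subset_lieSpan (Or.inr (lie_f b j T.v_mem))
    have h2 : T.h ∈ S := T.vv' ▸ LieSubalgebra.lie_mem _ h0 h1
    have h4 : b.f j ∈ S := by
      have := LieSubalgebra.lie_mem _ h1 h3
      rw [T.v'w] at this
      have := LieSubalgebra.smul_mem _ (-T.m)⁻¹ this
      rwa [← neg_smul, smul_smul, inv_mul_cancel₀ (neg_ne_zero.2 T.m_ne), one_smul] at this
    rintro _ ⟨i, rfl⟩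
    fin_cases i
    · exact h0
    · exact h1
    · exact h2
    · exact h3
    · exact h4

theorem finrank_alg : Module.finrank K (alg T) = 5 := by
  show Module.finrank K (spn T) = 5
  rw [spn, finrank_span_eq_card (linearIndependent_vec T), Fintype.card_fin]

/-- The abelian ideal. -/
def idl : LieIdeal K (alg T) :=
  { (Submodule.span K {⁅b.f j, T.v⁆, b.f j}).comap (alg T).toSubmodule.subtype with
    lie_mem := fun {x y} hy => by
      obtain ⟨x, hx⟩ := x
      obtain ⟨y, hy'⟩ := y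
      change y ∈ Submodule.span K {⁅b.f j, T.v⁆, b.f j} at hy
      show ⁅x, y⁆ ∈ Submodule.span K {⁅b.f j, T.v⁆, b.f j}
      change x ∈ spn T at hx
      obtain ⟨s, t, rfl⟩ := Submodule.mem_span_pair.1 hy
      set P := Submodule.span K ({⁅b.f j, T.v⁆, b.f j} : Set L)
      have hw : ⁅b.f j, T.v⁆ ∈ P := Submodule.subset_span (Or.inl rfl)
      have hg : b.f j ∈ P := Submodule.subset_span (Or.inr rfl)
      clear hy hy'
      induction hx using Submodule.span_induction with
      | mem x hx =>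
        obtain ⟨i, rfl⟩ := hx
        rw [lie_add, lie_smul, lie_smul]
        refine P.add_mem (P.smul_mem _ ?_) (P.smul_mem _ ?_)
        · fin_cases i <;> simp only [vec]
          · exact T.vw ▸ P.zero_mem
          · exact T.v'w ▸ P.neg_mem (P.smul_mem _ hg)
          · exact T.hw ▸ P.smul_mem _ hw
          · exact (lie_self ⁅b.f j, T.v⁆).symm ▸ P.zero_mem
          · exact T.gw ▸ P.zero_mem
        · fin_cases i <;> simp only [vec]
          · show ⁅T.v, b.f j⁆ ∈ P
            rw [← lie_skew]; exact P.neg_mem hw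
          · exact T.v'g ▸ P.zero_mem
          · exact T.hg ▸ P.neg_mem (P.smul_mem _ hg)
          · show ⁅⁅b.f j, T.v⁆, b.f j⁆ ∈ P
            rw [← lie_skew, T.gw, neg_zero]; exact P.zero_mem
          · exact (lie_self (b.f j)).symm ▸ P.zero_mem
      | zero => rw [zero_lie]; exact P.zero_mem
      | add a c _ _ ha hc => rw [add_lie]; exact P.add_mem ha hc
      | smul c a _ ha => rw [smul_lie]; exact P.smul_mem c ha }

theorem mem_idl (x : alg T) : x ∈ idl T ↔ (x : L) ∈ Submodule.span K {⁅b.f j, T.v⁆, b.f j} := Iff.rfl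

theorem isSolvable_idl : LieAlgebra.IsSolvable (idl T) := by
  haveI : IsLieAbelian (idl T) := ⟨fun x y => by
    apply Subtype.ext
    apply Subtype.ext
    obtain ⟨⟨x, hx₁⟩, hx⟩ := x
    obtain ⟨⟨y, hy₁⟩, hy⟩ := y
    show ⁅x, y⁆ = 0
    obtain ⟨s, t, rfl⟩ := Submodule.mem_span_pair.1 (show x ∈ Submodule.span K {⁅b.f j, T.v⁆, b.f j} from hx)
    obtain ⟨s', t', rfl⟩ := Submodule.mem_span_pair.1 (show y ∈ Submodule.span K {⁅b.f j, T.v⁆, b.f j} from hy)
    have h : ⁅⁅b.f j, T.v⁆, b.f j⁆ = 0 := by rw [← lie_skew, T.gw, neg_zero]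
    simp only [add_lie, lie_add, smul_lie, lie_smul, lie_self, T.gw, h, smul_zero, add_zero]⟩
  infer_instance

theorem eq_top_of_idl_le (J : LieIdeal K (alg T)) (hI : idl T ≤ J) (hne : ¬ J ≤ idl T) : J = ⊤ := by
  let S : Submodule K L := J.toSubmodule.map (alg T).toSubmodule.subtype
  have hS : ∀ a ∈ spn T, ∀ x ∈ S, ⁅a, x⁆ ∈ S := by
    rintro a ha _ ⟨y, hy, rfl⟩
    exact ⟨⁅(⟨a, ha⟩ : alg T), y⁆, J.lie_mem hy, rfl⟩
  have m : ∀ i, vec T i ∈ spn T := fun i => Submodule.subset_span ⟨i, rfl⟩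
  have hSI : ∀ x ∈ Submodule.span K ({⁅b.f j, T.v⁆, b.f j} : Set L), x ∈ S := by
    intro x hx
    have hx' : x ∈ spn T := Submodule.span_le.2 (by
      rintro _ (rfl | rfl)
      · exact m 3
      · exact m 4) hx
    exact ⟨⟨x, hx'⟩, hI ((mem_idl T _).2 hx), rfl⟩
  obtain ⟨y, hy, hyI⟩ : ∃ y ∈ J, y ∉ idl T := by
    by_contra h
    push Not at h
    exact hne h
  obtain ⟨c, hc⟩ := (Submodule.mem_span_range_iff_exists_fun K).1 (show (y : L) ∈ spn T from y.2)
  rw [Fin.sum_univ_five] at hc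
  change c 0 • T.v + c 1 • T.v' + c 2 • T.h + c 3 • ⁅b.f j, T.v⁆ + c 4 • b.f j = (y : L) at hc
  have hz : c 0 • T.v + c 1 • T.v' + c 2 • T.h ∈ S := by
    have h1 : c 3 • ⁅b.f j, T.v⁆ + c 4 • b.f j ∈ S :=
      hSI _ (Submodule.mem_span_pair.2 ⟨_, _, rfl⟩)
    have h2 : (y : L) ∈ S := ⟨y, hy, rfl⟩
    have := S.sub_mem h2 h1
    rwa [← hc, show c 0 • T.v + c 1 • T.v' + c 2 • T.h + c 3 • ⁅b.f j, T.v⁆ + c 4 • b.f j -
      (c 3 • ⁅b.f j, T.v⁆ + c 4 • b.f j) = c 0 • T.v + c 1 • T.v' + c 2 • T.h by abel] at this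
  have hvh : ⁅T.v, T.h⁆ = -((2 : K) • T.v) := by rw [← lie_skew, T.hv]
  have hv : T.v ∈ S := by
    have h1 := hS _ (m 0) _ hz
    change ⁅T.v, _⁆ ∈ S at h1
    rw [lie_add, lie_add, lie_smul, lie_smul, lie_smul, lie_self, smul_zero, zero_add, T.vv', hvh] at h1
    by_cases hb : c 1 = 0
    · by_cases hh : c 2 = 0
      · rw [hb, hh, zero_smul, zero_smul, add_zero, add_zero] at hz
        refine (S.smul_mem_iff (fun h0 => hyI ((mem_idl T y).2 ?_))).1 hz
        rw [← hc, h0, hb, hh, zero_smul, zero_smul, zero_smul, add_zero, zero_add]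
        rw [zero_add]; exact Submodule.mem_span_pair.2 ⟨_, _, rfl⟩
      · rw [hb, zero_smul, zero_add, smul_neg, smul_smul, S.neg_mem_iff] at h1
        exact (S.smul_mem_iff (mul_ne_zero hh two_ne_zero)).1 h1
    · have h2 := hS _ (m 0) _ h1
      change ⁅T.v, _⁆ ∈ S at h2
      rw [lie_add, lie_smul, lie_smul, lie_neg, lie_smul, lie_self, smul_zero, neg_zero, smul_zero, add_zero, hvh,
        smul_neg, smul_smul, S.neg_mem_iff] at h2
      exact (S.smul_mem_iff (mul_ne_zero hb two_ne_zero)).1 h2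
  have hh : T.h ∈ S := by
    have := hS _ (m 1) _ hv
    change ⁅T.v', T.v⁆ ∈ S at this
    rw [← lie_skew, T.vv', S.neg_mem_iff] at this
    exact this
  have hv' : T.v' ∈ S := by
    have := hS _ (m 1) _ hh
    change ⁅T.v', T.h⁆ ∈ S at this
    rw [← lie_skew, T.hv', neg_neg] at this
    exact (S.smul_mem_iff two_ne_zero).1 this
  refine eq_top_iff.2 fun x _ => ?_
  have hle : spn T ≤ S := Submodule.span_le.2 (by
    rintro _ ⟨i, rfl⟩
    fin_cases i
    · exact hv
    · exact hv'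
    · exact hh
    · exact hSI _ (Submodule.subset_span (Or.inl rfl))
    · exact hSI _ (Submodule.subset_span (Or.inr rfl)))
  obtain ⟨y, hy, hyx⟩ := hle x.2
  rwa [← (Subtype.ext hyx : y = x)]

theorem derived_top : LieAlgebra.derivedSeries K (alg T) 1 = ⊤ := by
  refine eq_top_of_idl_le T _ ?_ ?_
  · intro x hx
    obtain ⟨x, hx'⟩ := x
    change x ∈ Submodule.span K {⁅b.f j, T.v⁆, b.f j} at hx
    set D := LieAlgebra.derivedSeries K (alg T) 1
    have hD : ∀ a c : alg T, ⁅a, c⁆ ∈ D := fun a c => by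
      show ⁅a, c⁆ ∈ ⁅(⊤ : LieIdeal K (alg T)), (⊤ : LieIdeal K (alg T))⁆
      exact LieSubmodule.lie_mem_lie (LieSubmodule.mem_top _) (LieSubmodule.mem_top _)
    let S : Submodule K L := D.toSubmodule.map (alg T).toSubmodule.subtype
    suffices x ∈ S by
      obtain ⟨y, hy, hyx⟩ := this
      rwa [← (Subtype.ext hyx : y = (⟨x, hx'⟩ : alg T))]
    have hS : ∀ i k, ⁅vec T i, vec T k⁆ ∈ S := fun i k =>
      ⟨⁅(⟨vec T i, Submodule.subset_span ⟨i, rfl⟩⟩ : alg T), ⟨vec T k, Submodule.subset_span ⟨k, rfl⟩⟩⁆, hD _ _, rfl⟩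
    refine Submodule.span_le.2 ?_ hx
    rintro _ (rfl | rfl)
    · exact hS 4 0
    · have := hS 2 4
      change ⁅T.h, b.f j⁆ ∈ S at this
      rw [T.hg, S.neg_mem_iff] at this
      exact (S.smul_mem_iff T.m_ne).1 this
  · intro hle
    have hh : (⟨T.h, Submodule.subset_span ⟨2, rfl⟩⟩ : alg T) ∈ LieAlgebra.derivedSeries K (alg T) 1 := by
      have e : (⟨T.h, Submodule.subset_span ⟨2, rfl⟩⟩ : alg T) =
          ⁅(⟨T.v, Submodule.subset_span ⟨0, rfl⟩⟩ : alg T), ⟨T.v', Submodule.subset_span ⟨1, rfl⟩⟩⁆ :=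
        Subtype.ext T.vv'.symm
      rw [e]
      exact LieSubmodule.lie_mem_lie (LieSubmodule.mem_top _) (LieSubmodule.mem_top _)
    obtain ⟨s, t, hst⟩ := Submodule.mem_span_pair.1 ((mem_idl T _).1 (hle hh))
    change s • ⁅b.f j, T.v⁆ + t • b.f j = T.h at hst
    have := Fintype.linearIndependent_iff.1 (linearIndependent_vec T) ![0, 0, -1, s, t] (by
      simp [Fin.sum_univ_five, vec, ← hst]) 2
    simp at this

theorem radical_eq : LieAlgebra.radical K (alg T) = idl T := by
  have hI : idl T ≤ LieAlgebra.radical K (alg T) :=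
    (LieAlgebra.LieIdeal.solvable_iff_le_radical K (alg T) _).1 (isSolvable_idl T)
  refine le_antisymm ?_ hI
  by_contra hne
  have htop := eq_top_of_idl_le T _ hI hne
  have hs : LieAlgebra.IsSolvable (LieAlgebra.radical K (alg T)) := inferInstance
  rw [htop] at hs
  haveI : LieAlgebra.IsSolvable (alg T) := (LieAlgebra.solvable_iff_equiv_solvable LieIdeal.topEquiv).1 hs
  obtain ⟨k, hk⟩ := (LieAlgebra.isSolvable_iff K (alg T)).1 (inferInstance : LieAlgebra.IsSolvable (alg T))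
  have hall : ∀ k, LieAlgebra.derivedSeries K (alg T) k = ⊤ := fun k => by
    induction k with
    | zero => rfl
    | succ k ih =>
      have h1 := derived_top T
      rw [LieAlgebra.derivedSeries_def] at h1 ih ⊢
      rw [LieAlgebra.derivedSeriesOfIdeal_succ] at h1 ⊢
      rw [ih]
      exact h1
  rw [hall] at hk
  have : (⟨T.v, Submodule.subset_span ⟨0, rfl⟩⟩ : alg T) ∈ (⊥ : LieIdeal K (alg T)) := hk ▸ LieSubmodule.mem_top _
  exact T.v_ne (congrArg Subtype.val ((LieSubmodule.mem_bot _).1 this))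

theorem map_radical :
    (LieAlgebra.radical K (alg T)).toSubmodule.map ((alg T).incl : alg T →ₗ⁅K⁆ L).toLinearMap =
      RS (ρ - b.baseSupp j) ⊔ RS (-b.baseSupp j) := by
  rw [radical_eq, T.w_eq, T.g_eq, ← Submodule.span_union, Set.singleton_union]
  refine le_antisymm ?_ ?_
  · rintro _ ⟨y, hy, rfl⟩; exact hy
  · intro x hx
    have hx' : x ∈ spn T := Submodule.span_le.2 (by
      rintro _ (rfl | rfl)
      · exact Submodule.subset_span ⟨3, rfl⟩
      · exact Submodule.subset_span ⟨4, rfl⟩) hx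
    exact ⟨⟨x, hx'⟩, hx, rfl⟩

theorem finrank_radical : Module.finrank K (LieAlgebra.radical K (alg T)) = 2 := by
  have hinj : Function.Injective ((alg T).incl : alg T →ₗ⁅K⁆ L).toLinearMap := Subtype.val_injective
  have h1 := (Submodule.equivMapOfInjective _ hinj (LieAlgebra.radical K (alg T)).toSubmodule).finrank_eq
  rw [map_radical, T.w_eq, T.g_eq, ← Submodule.span_union, Set.singleton_union] at h1
  refine h1.trans ?_
  have hli : LinearIndependent K ![⁅b.f j, T.v⁆, b.f j] := by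
    refine (linearIndependent_vec T).comp ![(3 : Fin 5), 4] (by decide) |> fun h => ?_
    convert h using 1
    ext i; fin_cases i <;> rfl
  rw [show ({⁅b.f j, T.v⁆, b.f j} : Set L) = Set.range ![⁅b.f j, T.v⁆, b.f j] by simp [Matrix.range_cons, Matrix.range_empty, Set.pair_comm],
    finrank_span_eq_card hli, Fintype.card_fin]

end Groth.Agent.LieConicLib
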